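/-
Compact objects of the derived category of a Grothendieck abelian category with generators commuting with sums.
-/
import Mathlib
import Groth.Prelude.Def_CohDer
import Groth.Agent.DHA.KInjectiveResolution
import Groth.Agent.DHA.KInj.Products
import Groth.Agent.DHA.ClassRes

universe v u

open CategoryTheory CategoryTheory.Limits Pretriangulated
open scoped ZeroObject

namespace Groth.Agent.CompactGroth

variable {A : Type u} [Category.{v} A] [Abelian A]

section Complexes

/-- degreewise finite families give maps into coproducts -/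
theorem exists_toCoprod [HasCoproducts.{v} A] (P : CochainComplex A ℤ) (L : ULift.{v} ℕ → CochainComplex A ℤ)
    (g : ∀ n, P ⟶ L n) (N : ℤ → ℕ) (hN : ∀ i n, N i ≤ n.down → (g n).f i = 0) :
    ∃ (ψ : P ⟶ ∐ L) (p : ∀ n, ∐ L ⟶ L n),
      (∀ n, ψ ≫ p n = g n) ∧ ∀ m n, m ≠ n → Sigma.ι L m ≫ p n = 0 := by
  classical
  let p : ∀ n, ∐ L ⟶ L n := fun n => Sigma.desc fun m => if h : m = n then eqToHom (congrArg L h) else 0
  have hp : ∀ m n, m ≠ n → Sigma.ι L m ≫ p n = 0 := fun m n h => by simp [p, h]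
  have hp' : ∀ n, Sigma.ι L n ≫ p n = 𝟙 _ := fun n => by simp [p]
  let T : ℤ → ℕ → (∀ i, P.X i ⟶ (∐ L).X i) := fun _ M i =>
    ∑ n ∈ Finset.range M, (g ⟨n⟩).f i ≫ (Sigma.ι L ⟨n⟩).f i
  have hT : ∀ i M, N i ≤ M → T 0 M i = T 0 (N i) i := by
    intro i M hM
    refine (Finset.sum_subset (Finset.range_subset_range.2 hM) fun x _ hx => ?_).symm
    rw [hN i ⟨x⟩ (by simpa using hx), zero_comp]
  let ψ : P ⟶ ∐ L :=
    { f := fun i => T 0 (N i) i
      comm' := fun i j _ => by
        have h1 := hT i (max (N i) (N j)) (le_max_left _ _)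
        have h2 := hT j (max (N i) (N j)) (le_max_right _ _)
        rw [← h1, ← h2]
        simp [T, Preadditive.sum_comp, Preadditive.comp_sum] }
  refine ⟨ψ, p, fun n => ?_, hp⟩
  ext i
  show T 0 (N i) i ≫ (p n).f i = (g n).f i
  simp only [T, Preadditive.sum_comp, Category.assoc, ← HomologicalComplex.comp_f]
  rw [Finset.sum_eq_single n.down]
  · rw [hp', Category.comp_id]
  · intro b _ hb
    rw [hp ⟨b⟩ n (fun h => hb (congrArg ULift.down h)), comp_zero, HomologicalComplex.zero_f]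
  · intro hn
    rw [HomologicalComplex.comp_f, hN i ⟨n.down⟩ (by simpa using hn), zero_comp]

/-- complexes from quotients of terms -/
theorem exists_quot (P : CochainComplex A ℤ) (Z : ℤ → A) (p : ∀ i, P.X i ⟶ Z i) (hp : ∀ i, Epi (p i))
    (h : ∀ i, ∃ u : Z i ⟶ Z (i + 1), P.d i (i + 1) ≫ p (i + 1) = p i ≫ u) :
    ∃ (R : CochainComplex A ℤ) (π : P ⟶ R), ∀ i, ∃ e : R.X i ≅ Z i, π.f i ≫ e.hom = p i := by
  choose u hu using h
  have hu2 : ∀ i, u i ≫ u (i + 1) = 0 := fun i => by
    have := hp i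
    rw [← cancel_epi (p i), ← Category.assoc, ← hu i, Category.assoc, ← hu (i + 1), P.d_comp_d_assoc, zero_comp,
      comp_zero]
  let R : CochainComplex A ℤ := CochainComplex.of Z u hu2
  refine ⟨R, { f := p, comm' := fun i j (hij : i + 1 = j) => ?_ }, fun i => ⟨Iso.refl _, Category.comp_id _⟩⟩
  subst hij
  rw [show R.d i (i + 1) = u i by simp [R]]
  exact (hu i).symm

end Complexes

section Derived

variable [IsGrothendieckAbelian.{v} A] [HasCoproducts.{v} A] [HasDerivedCategory.{v} A]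
  [HasCoproducts.{v} (DerivedCategory A)]

/-- finite support of maps out of a compact object -/
theorem exists_support {K : DerivedCategory A} (hK : CohDer.IsCompactObject K) {T : Type v}
    (L : T → CochainComplex A ℤ) (φ : K ⟶ DerivedCategory.Q.obj (∐ L)) :
    ∃ s : Finset T, ∀ {Z : DerivedCategory A} (m : DerivedCategory.Q.obj (∐ L) ⟶ Z),
      (∀ t ∈ s, DerivedCategory.Q.map (Sigma.ι L t) ≫ m = 0) → φ ≫ m = 0 := by
  classical
  obtain ⟨hc⟩ := DHA.KInj.nonempty_isColimit_Q (fun M => by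
    obtain ⟨I, f, h1, h2, -⟩ := DHA.KInj.exists_resolution A M
    exact ⟨I, f, h1, h2⟩) L
  let c : (∐ fun t => DerivedCategory.Q.obj (L t)) ≅ DerivedCategory.Q.obj (∐ L) :=
    (coproductIsCoproduct fun t => DerivedCategory.Q.obj (L t)).coconePointUniqueUpToIso hc
  have hcι : ∀ t, Sigma.ι (fun t => DerivedCategory.Q.obj (L t)) t ≫ c.hom = DerivedCategory.Q.map (Sigma.ι L t) :=
    fun t => IsColimit.comp_coconePointUniqueUpToIso_hom _ _ _
  obtain ⟨x, hx⟩ := (hK T _).2 (φ ≫ c.inv)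
  refine ⟨DFinsupp.support x, fun {Z} m hm => ?_⟩
  have : φ = CohDer.homSumToHomCoprod K _ x ≫ c.hom := by
    rw [hx]
    exact ((Category.assoc _ _ _).trans (by rw [c.inv_hom_id]; exact Category.comp_id _)).symm
  rw [this]
  conv_lhs => rw [← DirectSum.sum_support_of x]
  rw [map_sum, Preadditive.sum_comp, Preadditive.sum_comp]
  refine Finset.sum_eq_zero fun t ht => ?_
  unfold CohDer.homSumToHomCoprod
  rw [DirectSum.toAddMonoid_of]
  change ((x t ≫ Sigma.ι (fun t => DerivedCategory.Q.obj (L t)) t) ≫ c.hom) ≫ m = 0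
  rw [Category.assoc (x t), hcι, Category.assoc, hm t ht, comp_zero]

variable (S : Set A)

/-- direct sums of members of `S` -/
def SumS : ObjectProperty A := fun X =>
  ∃ (ι : Type v) (E : ι → A), (∀ i, E i ∈ S) ∧ Nonempty (X ≅ ∐ E)

/-- finite direct sums of members of `S` -/
def FinS [HasFiniteBiproducts A] : ObjectProperty A := fun X =>
  ∃ (n : ℕ) (E : Fin n → A), (∀ j, E j ∈ S) ∧ Nonempty (X ≅ ⨁ E)

theorem sumS_of_isZero {X : A} (hX : IsZero X) : SumS S X :=
  ⟨PEmpty, PEmpty.elim, fun i => i.elim, ⟨hX.iso ((IsZero.iff_id_eq_zero _).2 (Sigma.hom_ext _ _ fun i => i.elim))⟩⟩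

theorem sumS_of_iso {X Y : A} (e : X ≅ Y) (h : SumS S X) : SumS S Y := by
  obtain ⟨ι, E, hE, ⟨f⟩⟩ := h
  exact ⟨ι, E, hE, ⟨e.symm ≪≫ f⟩⟩

variable {S} in
theorem boundedAbove {K : DerivedCategory A} (hK : CohDer.IsCompactObject K) :
    ∃ (P : CochainComplex A ℤ) (n : ℤ), P.IsLE n ∧ Nonempty (K ≅ DerivedCategory.Q.obj P) := by
  let P := DerivedCategory.Q.objPreimage K
  let e : K ≅ DerivedCategory.Q.obj P := (DerivedCategory.Q.objObjPreimageIso K).symm
  let L : ULift.{v} ℕ → CochainComplex A ℤ := fun n => P.truncGE (n.down : ℤ)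
  obtain ⟨ψ, p, hψ, hp⟩ := exists_toCoprod P L (fun n => P.πTruncGE (n.down : ℤ))
    (fun i => (i + 1).toNat)
    (fun i n (hn : (i + 1).toNat ≤ n.down) =>
      ((P.truncGE (n.down : ℤ)).isZero_of_isStrictlyGE (n.down : ℤ) i (by omega)).eq_of_tgt _ _)
  obtain ⟨s, hs⟩ := exists_support hK L (e.hom ≫ DerivedCategory.Q.map ψ)
  classical
  obtain ⟨n, hn⟩ := Infinite.exists_notMem_finset s
  have h0 : DerivedCategory.Q.map (P.πTruncGE (n.down : ℤ)) = 0 := by
    have := hs (DerivedCategory.Q.map (p n)) fun t ht => by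
      rw [← Functor.map_comp, hp t n (fun h => hn (h ▸ ht)), Functor.map_zero]
    rw [Category.assoc, ← Functor.map_comp, hψ] at this
    exact zero_of_epi_comp e.hom this
  refine ⟨P, n.down, ?_, ⟨e⟩⟩
  rw [CochainComplex.isLE_iff]
  intro i hi
  rw [HomologicalComplex.exactAt_iff_isZero_homology, IsZero.iff_id_eq_zero]
  have hz : HomologicalComplex.homologyMap (P.πTruncGE (n.down : ℤ)) i = 0 := by
    have := (DerivedCategory.homologyFunctorFactors A i).hom.naturality (P.πTruncGE (n.down : ℤ))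
    dsimp at this
    rw [h0, Functor.map_zero, zero_comp] at this
    have h := congrArg (((DerivedCategory.homologyFunctorFactors A i).app P).inv ≫ ·) this.symm
    simp only [Iso.app_inv, Iso.inv_hom_id_app_assoc, comp_zero] at h
    exact h
  obtain ⟨k, hk⟩ := Int.le.dest (le_of_lt hi)
  have : QuasiIsoAt (P.πTruncGE (n.down : ℤ)) i :=
    HomologicalComplex.quasiIsoAt_πTruncGE P (ComplexShape.embeddingUpIntGE (n.down : ℤ))
      (show (ComplexShape.embeddingUpIntGE (n.down : ℤ)).f k = i by simpa using hk)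
  rw [quasiIsoAt_iff_isIso_homologyMap] at this
  rw [← cancel_mono (HomologicalComplex.homologyMap (P.πTruncGE (n.down : ℤ)) i), Category.id_comp, hz,
    comp_zero]

variable {S}
  (h1 : ∀ X : A, ∃ (ι : Type v) (E : ι → A) (π : ∐ E ⟶ X), (∀ i, E i ∈ S) ∧ Epi π)

include h1 in
theorem exists_bounded {K : DerivedCategory A} (hK : CohDer.IsCompactObject K) :
    ∃ (P : CochainComplex A ℤ) (a b : ℤ), (∀ i, i < a ∨ b < i → IsZero (P.X i)) ∧ (∀ i, SumS S (P.X i)) ∧
      Nonempty (Retract K (DerivedCategory.Q.obj P)) := by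
  obtain ⟨P₀, c, hP₀, ⟨e₀⟩⟩ := boundedAbove hK
  obtain ⟨P, α, hP, hPS, hα⟩ := DHA.ClassRes.exists_leftResolution_of_homology (P := fun X => SumS S X)
    (fun X => by
      obtain ⟨ι, E, π, hE, hπ⟩ := h1 X
      exact ⟨_, π, ⟨ι, E, hE, ⟨Iso.refl _⟩⟩, hπ⟩)
    (⟨_, isZero_zero A, sumS_of_isZero S (isZero_zero A)⟩) P₀ c
  let e : K ≅ DerivedCategory.Q.obj P := e₀ ≪≫ (asIso (DerivedCategory.Q.map α)).symm
  have hq : ∀ (m : ℤ) (i : ℤ), ∃ (Z : A) (p : P.X i ⟶ Z), Epi p ∧ (i < m → IsIso p) ∧ (m ≤ i → IsZero Z) := by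
    intro m i
    by_cases h : i < m
    · exact ⟨_, 𝟙 _, inferInstance, fun _ => inferInstance, fun h' => absurd h (not_lt.2 h')⟩
    · exact ⟨_, (0 : P.X i ⟶ (0 : A)), ⟨fun f g _ => (isZero_zero A).eq_of_src f g⟩,
        fun h' => absurd h' h, fun _ => isZero_zero A⟩
  choose Z p hpe hpi hpz using hq
  have hquot := fun m => exists_quot P (Z m) (p m) (hpe m) fun i => by
    by_cases h : i < m
    · have := hpi m i h
      exact ⟨inv (p m i) ≫ P.d i (i + 1) ≫ p m (i + 1), by simp⟩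
    · exact ⟨0, (hpz m (i + 1) (by omega)).eq_of_tgt _ _⟩
  choose R π iR hiR using hquot
  let L : ULift.{v} ℕ → CochainComplex A ℤ := fun n => R (-(n.down : ℤ))
  have hL : ∀ (n : ULift.{v} ℕ) (i : ℤ), -(n.down : ℤ) ≤ i → IsZero ((L n).X i) := fun n i h =>
    (hpz _ i h).of_iso (iR _ i)
  obtain ⟨ψ, q, hψ, hq⟩ := exists_toCoprod P L (fun n => π _) (fun i => (-i).toNat)
    (fun i n hn => (hL n i (by omega)).eq_of_tgt _ _)
  obtain ⟨s, hs⟩ := exists_support hK L (e.hom ≫ DerivedCategory.Q.map ψ)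
  classical
  obtain ⟨n, hn⟩ := Infinite.exists_notMem_finset s
  let m : ℤ := -(n.down : ℤ)
  have h0 : DerivedCategory.Q.map (π m) = 0 := by
    have := hs (DerivedCategory.Q.map (q n)) fun t ht => by
      rw [← Functor.map_comp, hq t n (fun h => hn (h ▸ ht)), Functor.map_zero]
    rw [Category.assoc, ← Functor.map_comp, hψ] at this
    exact zero_of_epi_comp e.hom this
  have hπe : ∀ i, Epi ((π m).f i) := fun i => by
    have := hpe m i
    rw [show (π m).f i = p m i ≫ (iR m i).inv by rw [← hiR m i]; simp]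
    infer_instance
  have : Epi (π m) := HomologicalComplex.epi_of_epi_f _ hπe
  let T : ShortComplex (CochainComplex A ℤ) := ShortComplex.mk (kernel.ι (π m)) (π m) (kernel.condition _)
  have hT : T.ShortExact := { exact := ShortComplex.exact_kernel _ }
  obtain ⟨σ, hσ⟩ : ∃ σ, 𝟙 (DerivedCategory.Q.obj P) = σ ≫ DerivedCategory.Q.map (kernel.ι (π m)) :=
    Triangle.coyoneda_exact₂ _ (DerivedCategory.triangleOfSES_distinguished hT) (𝟙 _) (by
      show 𝟙 (DerivedCategory.Q.obj P) ≫ DerivedCategory.Q.map (π m) = 0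
      rw [h0, comp_zero])
  have hker : ∀ i, Nonempty ((kernel (π m)).X i ≅ kernel ((π m).f i)) := fun i =>
    ⟨PreservesKernel.iso (HomologicalComplex.eval A (ComplexShape.up ℤ) i) (π m)⟩
  have hlow : ∀ i, i < m → IsZero ((kernel (π m)).X i) := fun i hi => by
    have := hpi m i hi
    have : IsIso ((π m).f i) := by
      rw [show (π m).f i = p m i ≫ (iR m i).inv by rw [← hiR m i]; simp]
      infer_instance
    exact (isZero_kernel_of_mono _).of_iso (hker i).some
  have hhigh : ∀ i, m ≤ i → Nonempty ((kernel (π m)).X i ≅ P.X i) := fun i hi => by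
    have h : (π m).f i = 0 := (hL n i hi).eq_of_tgt _ _
    exact ⟨(hker i).some ≪≫ kernelIsoOfEq h ≪≫ kernelZeroIsoSource⟩
  refine ⟨kernel (π m), m, c, fun i hi => ?_, fun i => ?_,
    ⟨⟨e.hom ≫ σ, DerivedCategory.Q.map (kernel.ι (π m)) ≫ e.inv, by simp [← reassoc_of% hσ]⟩⟩⟩
  · rcases hi with hi | hi
    · exact hlow i hi
    · by_cases h : i < m
      · exact hlow i h
      · exact (P.isZero_of_isStrictlyLE c i hi).of_iso (hhigh i (not_lt.1 h)).some
  · by_cases h : i < m
    · exact sumS_of_isZero S (hlow i h)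
    · exact sumS_of_iso S (hhigh i (not_lt.1 h)).some.symm (hPS i)

end Derived

end Groth.Agent.CompactGroth
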