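import Groth.Agent.CompactGroth.Basic

universe v u

open CategoryTheory CategoryTheory.Limits Pretriangulated Opposite
open scoped ZeroObject

namespace Groth.Agent.CompactGroth

variable {A : Type u} [Category.{v} A] [Abelian A]

/-- maps from an object whose coyoneda functor preserves sums have finite support -/
theorem exists_hom_support [HasCoproducts.{v} A] (E : A) {ι : Type v} (X : ι → A)
    [PreservesColimitsOfShape (Discrete ι) (preadditiveCoyoneda.obj (op E))] (f : E ⟶ ∐ X) :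
    ∃ s : Finset ι, ∀ {Z : A} (m : ∐ X ⟶ Z), (∀ i ∈ s, Sigma.ι X i ≫ m = 0) → f ≫ m = 0 := by
  classical
  let G := preadditiveCoyoneda.obj (op E)
  let N : AddSubgroup (E ⟶ ∐ X) :=
    { carrier := {f | ∃ s : Finset ι, ∀ {Z : A} (m : ∐ X ⟶ Z), (∀ i ∈ s, Sigma.ι X i ≫ m = 0) → f ≫ m = 0}
      zero_mem' := ⟨∅, fun m _ => zero_comp⟩
      add_mem' := fun {a b} ⟨s, hs⟩ ⟨t, ht⟩ => ⟨s ∪ t, fun m hm => by
        rw [Preadditive.add_comp, hs m (fun i hi => hm i (Finset.mem_union_left _ hi)),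
          ht m (fun i hi => hm i (Finset.mem_union_right _ hi)), add_zero]⟩
      neg_mem' := fun {a} ⟨s, hs⟩ => ⟨s, fun m hm => by rw [Preadditive.neg_comp, hs m hm, neg_zero]⟩ }
  have hmem : ∀ i (g : E ⟶ X i), g ≫ Sigma.ι X i ∈ N := fun i g =>
    ⟨{i}, fun m hm => by rw [Category.assoc, hm i (Finset.mem_singleton_self i), comp_zero]⟩
  let q : G.obj (∐ X) ⟶ AddCommGrpCat.of ((E ⟶ ∐ X) ⧸ N) := AddCommGrpCat.ofHom (QuotientAddGroup.mk' N)
  have hq : q = 0 := Cofan.IsColimit.hom_ext (isColimitCofanMkObjOfIsColimit G X _ (coproductIsCoproduct X))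
    _ _ fun i => by
      ext g
      show QuotientAddGroup.mk' N (g ≫ Sigma.ι X i) = 0
      exact (QuotientAddGroup.eq_zero_iff _).2 (hmem i g)
  have hf : QuotientAddGroup.mk' N f = 0 := ConcreteCategory.congr_hom hq f
  exact (QuotientAddGroup.eq_zero_iff f).1 hf

variable [IsGrothendieckAbelian.{v} A] [HasCoproducts.{v} A] [HasFiniteBiproducts A]
  [HasDerivedCategory.{v} A] [HasCoproducts.{v} (DerivedCategory A)] {S : Set A}

theorem finS_of_isZero {X : A} (hX : IsZero X) : FinS S X :=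
  ⟨0, Fin.elim0, fun i => i.elim0, ⟨hX.iso ((IsZero.iff_id_eq_zero _).2 (biproduct.hom_ext _ _ fun i => i.elim0))⟩⟩

theorem finS_of_iso {X Y : A} (e : X ≅ Y) (h : FinS S X) : FinS S Y := by
  obtain ⟨n, E, hE, ⟨f⟩⟩ := h
  exact ⟨n, E, hE, ⟨e.symm ≪≫ f⟩⟩

variable (h2 : ∀ E ∈ S, ∀ ι : Type v, PreservesColimitsOfShape (Discrete ι) (preadditiveCoyoneda.obj (op E)))

set_option maxHeartbeats 1000000 in
include h2 in
/-- one shrinking step -/
theorem exists_shrink_step {K : DerivedCategory A} (hK : CohDer.IsCompactObject K) (P : CochainComplex A ℤ)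
    (k : ℤ) (hk : SumS S (P.X k)) (hlow : FinS S (P.X (k - 1))) (φ : K ⟶ DerivedCategory.Q.obj P) :
    ∃ (P' : CochainComplex A ℤ) (j : P' ⟶ P) (g : K ⟶ DerivedCategory.Q.obj P'),
      g ≫ DerivedCategory.Q.map j = φ ∧ FinS S (P'.X k) ∧ ∀ i, i ≠ k → Nonempty (P'.X i ≅ P.X i) := by
  classical
  obtain ⟨T, E, hE, ⟨e⟩⟩ := hk
  obtain ⟨nl, El, hEl, ⟨el⟩⟩ := hlow
  have hd : ∀ j, ∃ s : Finset T, ∀ {Z : A} (m : ∐ E ⟶ Z), (∀ t ∈ s, Sigma.ι E t ≫ m = 0) →
      (biproduct.ι El j ≫ el.inv ≫ P.d (k - 1) k ≫ e.hom) ≫ m = 0 := fun j => by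
    have := h2 _ (hEl j) T
    exact exists_hom_support (El j) E _
  choose sj hsj using hd
  let s₀ : Finset T := Finset.univ.biUnion sj
  let T' := { t : T // t ∉ s₀ }
  let E' : T' → A := fun t => E t.1
  let m₀ : ∐ E ⟶ ∐ E' := Sigma.desc fun t => if h : t ∉ s₀ then Sigma.ι E' ⟨t, h⟩ else 0
  have hm₀ : ∀ i, (ComplexShape.up ℤ).Rel i k → P.d i k ≫ e.hom ≫ m₀ = 0 := by
    intro i (hi : i + 1 = k)
    obtain rfl : i = k - 1 := by omega
    rw [← cancel_epi el.inv, comp_zero]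
    refine biproduct.hom_ext' _ _ fun j => ?_
    rw [comp_zero, show biproduct.ι El j ≫ el.inv ≫ P.d (k - 1) k ≫ e.hom ≫ m₀ =
      (biproduct.ι El j ≫ el.inv ≫ P.d (k - 1) k ≫ e.hom) ≫ m₀ by simp]
    exact hsj j m₀ fun t ht => by simp [m₀, show t ∈ s₀ from Finset.mem_biUnion.2 ⟨j, Finset.mem_univ _, ht⟩]
  let G := HomologicalComplex.single A (ComplexShape.up ℤ) k
  let cI := PreservesCoproduct.iso G E'
  let ψ : P ⟶ ∐ fun t => G.obj (E' t) := HomologicalComplex.mkHomToSingle (e.hom ≫ m₀) hm₀ ≫ cI.hom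
  obtain ⟨s₁, hs₁⟩ := exists_support hK (fun t => G.obj (E' t)) (φ ≫ DerivedCategory.Q.map ψ)
  let s : Finset T := s₀ ∪ s₁.image Subtype.val
  let T'' := { t : T // t ∉ s }
  let E'' : T'' → A := fun t => E t.1
  let m : ∐ E ⟶ ∐ E'' := Sigma.desc fun t => if h : t ∉ s then Sigma.ι E'' ⟨t, h⟩ else 0
  let n : ∐ E' ⟶ ∐ E'' := Sigma.desc fun t => if h : t.1 ∉ s then Sigma.ι E'' ⟨t.1, h⟩ else 0
  have hmn : m₀ ≫ n = m := Sigma.hom_ext _ _ fun t => by
    by_cases h : t ∈ s₀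
    · simp [m₀, m, h, show t ∈ s from Finset.mem_union_left _ h]
    · simp [m₀, m, n, h, E']
  have hm : ∀ i, (ComplexShape.up ℤ).Rel i k → P.d i k ≫ e.hom ≫ m = 0 := fun i hi => by
    rw [← hmn, reassoc_of% hm₀ i hi, zero_comp]
  let χ : P ⟶ G.obj (∐ E'') := HomologicalComplex.mkHomToSingle (e.hom ≫ m) hm
  have hψn : ψ ≫ cI.inv ≫ G.map n = χ := by
    simp only [ψ, Category.assoc, Iso.hom_inv_id_assoc]
    apply HomologicalComplex.to_single_hom_ext
    rw [HomologicalComplex.comp_f, HomologicalComplex.mkHomToSingle_f, HomologicalComplex.mkHomToSingle_f,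
      HomologicalComplex.single_map_f_self]
    simp [← hmn]
  have hφ : φ ≫ DerivedCategory.Q.map χ = 0 := by
    rw [← hψn, Functor.map_comp, ← Category.assoc]
    refine hs₁ _ fun t ht => ?_
    rw [← Functor.map_comp, show Sigma.ι (fun t => G.obj (E' t)) t ≫ cI.inv ≫ G.map n = 0 from ?_,
      Functor.map_zero]
    rw [PreservesCoproduct.inv_hom, ι_comp_sigmaComparison_assoc, ← Functor.map_comp]
    have : Sigma.ι E' t ≫ n = 0 := by
      simp [n, show t.1 ∈ s from Finset.mem_union_right _ (Finset.mem_image_of_mem _ ht)]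
    rw [this, Functor.map_zero]
  let sec : ∐ E'' ⟶ ∐ E := Sigma.desc fun t => Sigma.ι E t.1
  have hsec : sec ≫ m = 𝟙 _ := Sigma.hom_ext _ _ fun t => by
    simp [sec, m, t.2, E'']
    rfl
  have hχk : χ.f k = (e.hom ≫ m) ≫ (HomologicalComplex.singleObjXSelf (ComplexShape.up ℤ) k (∐ E'')).inv :=
    HomologicalComplex.mkHomToSingle_f _ _
  have hz : ∀ i, i ≠ k → IsZero ((G.obj (∐ E'')).X i) := fun i hi =>
    HomologicalComplex.isZero_single_obj_X (ComplexShape.up ℤ) k _ i hi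
  have : Epi χ := HomologicalComplex.epi_of_epi_f _ fun i => by
    by_cases hi : i = k
    · subst hi
      have : Epi m := (SplitEpi.mk sec hsec).epi
      rw [hχk]
      infer_instance
    · exact ⟨fun f g _ => (hz i hi).eq_of_src f g⟩
  let U : ShortComplex (CochainComplex A ℤ) := ShortComplex.mk (kernel.ι χ) χ (kernel.condition _)
  have hU : U.ShortExact := { exact := ShortComplex.exact_kernel _ }
  obtain ⟨g, hg⟩ : ∃ g, φ = g ≫ DerivedCategory.Q.map (kernel.ι χ) :=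
    Triangle.coyoneda_exact₂ _ (DerivedCategory.triangleOfSES_distinguished hU) φ hφ
  let ker : ∀ i, (kernel χ).X i ≅ kernel (χ.f i) := fun i =>
    PreservesKernel.iso (HomologicalComplex.eval A (ComplexShape.up ℤ) i) χ
  refine ⟨kernel χ, kernel.ι χ, g, hg.symm, ?_, fun i hi => ?_⟩
  · let σ : Fin s.card ≃ s := s.equivFin.symm
    let F : Fin s.card → A := fun i => E (σ i).1
    let inc : ⨁ F ⟶ ∐ E := biproduct.desc fun i => Sigma.ι E (σ i).1
    let r : ∐ E ⟶ ⨁ F := Sigma.desc fun t =>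
      if h : t ∈ s then eqToHom (by simp [F]) ≫ biproduct.ι F (σ.symm ⟨t, h⟩) else 0
    have h0 : inc ≫ m = 0 := biproduct.hom_ext' _ _ fun i => by simp [inc, m, F, (σ i).2]
    have h1 : inc ≫ r = 𝟙 _ := biproduct.hom_ext' _ _ fun i => by
      simp only [inc, r, biproduct.ι_desc_assoc, Sigma.ι_desc, Category.comp_id]
      rw [dif_pos (σ i).2]
      have : ∀ (j : Fin s.card) (hj : i = j) (h : E (σ i).1 = F j),
          eqToHom h ≫ biproduct.ι F j = biproduct.ι F i := by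
        intro j hj h; subst hj; exact Category.id_comp _
      exact this _ (σ.symm_apply_apply i).symm _
    have h2 : r ≫ inc + m ≫ sec = 𝟙 _ := Sigma.hom_ext _ _ fun t => by
      by_cases h : t ∈ s
      · simp only [inc, r, m, sec, Preadditive.comp_add, Sigma.ι_desc_assoc, dif_pos h,
          dif_neg (not_not.2 h), zero_comp, add_zero, Category.assoc, biproduct.ι_desc, Category.comp_id]
        have : ∀ (u : T) (hu : t = u) (h' : E t = E u), eqToHom h' ≫ Sigma.ι E u = Sigma.ι E t := by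
          intro u hu h'; subst hu; exact Category.id_comp _
        exact this _ (by simp) _
      · simp only [inc, r, m, sec, Preadditive.comp_add, Sigma.ι_desc_assoc, dif_neg h,
          dif_pos h, zero_comp, zero_add, Sigma.ι_desc, Category.comp_id]
    have hl : IsLimit (KernelFork.ofι inc h0) := KernelFork.IsLimit.ofι _ _ (fun g _ => g ≫ r)
      (fun g hg => by
        have := congrArg (g ≫ ·) h2
        simpa [reassoc_of% hg] using this)
      (fun g _ u hu => by rw [← hu, Category.assoc, h1, Category.comp_id])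
    have : FinS S (⨁ F) := ⟨s.card, F, fun i => hE _, ⟨Iso.refl _⟩⟩
    refine finS_of_iso ?_ this
    refine (hl.conePointUniqueUpToIso (kernelIsKernel m)) ≪≫ (kernelIsIsoComp e.hom m).symm ≪≫ ?_ ≪≫ (ker k).symm
    exact (kernelCompMono (e.hom ≫ m) _).symm ≪≫ kernelIsoOfEq hχk.symm
  · exact ⟨ker i ≪≫ kernelIsoOfEq ((hz i hi).eq_of_tgt _ _) ≪≫ kernelZeroIsoSource⟩

include h2 in
theorem exists_finite {K : DerivedCategory A} (hK : CohDer.IsCompactObject K) (a b : ℤ) :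
    ∀ (N : ℕ) (P : CochainComplex A ℤ), (∀ i, i < a ∨ b < i → IsZero (P.X i)) → (∀ i, SumS S (P.X i)) →
      ∀ φ : K ⟶ DerivedCategory.Q.obj P,
      ∃ (P' : CochainComplex A ℤ) (j : P' ⟶ P) (g : K ⟶ DerivedCategory.Q.obj P'),
        g ≫ DerivedCategory.Q.map j = φ ∧ (∀ i, i < a ∨ b < i → IsZero (P'.X i)) ∧ (∀ i, SumS S (P'.X i)) ∧
          ∀ i, i < a + N → FinS S (P'.X i) := by
  intro N
  induction N with
  | zero =>
    intro P hP hS φ
    exact ⟨P, 𝟙 P, φ, by simp, hP, hS, fun i hi => finS_of_isZero (hP i (Or.inl (by omega)))⟩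
  | succ N ih =>
    intro P hP hS φ
    obtain ⟨P₁, j₁, g₁, hg₁, hP₁, hS₁, hF₁⟩ := ih P hP hS φ
    by_cases hab : b < a + N
    · exact ⟨P₁, j₁, g₁, hg₁, hP₁, hS₁, fun i hi => by
        by_cases h : i < a + N
        · exact hF₁ i h
        · exact finS_of_isZero (hP₁ i (Or.inr (by omega)))⟩
    obtain ⟨P₂, j₂, g₂, hg₂, hk, hne⟩ :=
      exists_shrink_step h2 hK P₁ (a + N) (hS₁ _) (hF₁ _ (by omega)) g₁
    refine ⟨P₂, j₂ ≫ j₁, g₂, by rw [Functor.map_comp, reassoc_of% hg₂, hg₁], fun i hi => ?_, fun i => ?_,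
      fun i hi => ?_⟩
    · exact (hP₁ i hi).of_iso (hne i (by omega)).some
    · by_cases h : i = a + N
      · subst h
        obtain ⟨n, E, hE, ⟨f⟩⟩ := hk
        exact ⟨ULift (Fin n), fun j => E j.down, fun j => hE _,
          ⟨f ≪≫ biproduct.isoCoproduct E ≪≫ (Sigma.whiskerEquiv (f := fun j : ULift.{v} (Fin n) => E j.down) Equiv.ulift (fun _ => Iso.refl _)).symm⟩⟩
      · exact sumS_of_iso S (hne i h).some.symm (hS₁ i)
    · by_cases h : i = a + N
      · subst h; exact hk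
      · exact finS_of_iso (hne i h).some.symm (hF₁ i (by omega))

variable (h1 : ∀ X : A, ∃ (ι : Type v) (E : ι → A) (π : ∐ E ⟶ X), (∀ i, E i ∈ S) ∧ Epi π)

include h1 h2 in
theorem exists_retract (K : DerivedCategory A) (hK : CohDer.IsCompactObject K) :
    ∃ (L : CochainComplex A ℤ) (a b : ℤ),
      (∀ i : ℤ, i < a ∨ b < i → IsZero (L.X i)) ∧
      (∀ i : ℤ, ∃ (n : ℕ) (E : Fin n → A), (∀ j, E j ∈ S) ∧ Nonempty (L.X i ≅ ⨁ E)) ∧
      Nonempty (Retract K (DerivedCategory.Q.obj L)) := by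
  obtain ⟨P, a, b, hP, hS, ⟨R⟩⟩ := exists_bounded h1 hK
  obtain ⟨L, j, g, hg, hL, -, hF⟩ := exists_finite h2 hK a b (b + 1 - a).toNat P hP hS R.i
  refine ⟨L, a, b, hL, fun i => ?_, ⟨⟨g, DerivedCategory.Q.map j ≫ R.r, by rw [reassoc_of% hg, R.retract]⟩⟩⟩
  by_cases h : i < a + (b + 1 - a).toNat
  · exact hF i h
  · exact finS_of_isZero (hL i (Or.inr (by omega)))

end Groth.Agent.CompactGroth
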